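import Groth.Agent.EtSheafCrit.Basic
import Groth.Prelude.Def_EtCore

/-!
# The sheaf condition for a Galois covering; sections on finite disjoint unions
-/

set_option autoImplicit false
set_option linter.all false
set_option backward.isDefEq.respectTransparency false
set_option backward.isDefEq.respectTransparency.types false
set_option synthInstance.maxHeartbeats 400000

universe w v u

open CategoryTheory Limits AlgebraicGeometry Opposite
open Groth.Agent.EtSheafCrit

namespace Groth.Agent.EtGal

/-- The sheaf condition for a single morphism to a terminal object whose self product decomposes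
along a finite group action. -/
theorem isSheafFor_iff_invariants {C : Type u} [Category.{v} C] {T Y : C} (hT : IsTerminal T)
    [HasBinaryProduct Y Y] {G : Type*} [Monoid G] (σ : G → (Y ⟶ Y)) (P : Cᵒᵖ ⥤ Type w)
    (hP : Function.Injective (fun s : P.obj (op (Y ⨯ Y)) => fun g : G => P.map (prod.lift (𝟙 Y) (σ g)).op s)) :
    Presieve.IsSheafFor P (Presieve.singleton (hT.from Y)) ↔
      (Function.Injective (P.map (hT.from Y).op) ∧
        Set.range (P.map (hT.from Y).op) = {s | ∀ g : G, P.map (σ g).op s = s}) := by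
  rw [Presieve.isSheafFor_singleton]
  have hcompat : ∀ x : P.obj (op Y), (∀ g : G, P.map (σ g).op x = x) →
      ∀ {Z : C} (p₁ p₂ : Z ⟶ Y), p₁ ≫ hT.from Y = p₂ ≫ hT.from Y → P.map p₁.op x = P.map p₂.op x := by
    intro x hx Z p₁ p₂ _
    have h : P.map (prod.fst (X := Y) (Y := Y)).op x = P.map (prod.snd (X := Y) (Y := Y)).op x := hP (funext fun g => by
      simp only [← Functor.map_comp_apply, ← op_comp, prod.lift_fst, prod.lift_snd, hx g, op_id,
        Functor.map_id_apply])
    have := congrArg (P.map (prod.lift p₁ p₂).op) h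
    simpa only [← Functor.map_comp_apply, ← op_comp, prod.lift_fst, prod.lift_snd] using this
  constructor
  · intro h
    have hinv : ∀ (t : P.obj (op T)) (g : G), P.map (σ g).op (P.map (hT.from Y).op t) = P.map (hT.from Y).op t :=
      fun t g => by rw [← Functor.map_comp_apply, ← op_comp, hT.hom_ext (σ g ≫ hT.from Y) (hT.from Y)]
    refine ⟨fun a b hab => ?_, Set.eq_of_subset_of_subset ?_ ?_⟩
    · exact (h _ (hcompat _ (hinv a))).unique rfl hab.symm
    · rintro _ ⟨t, rfl⟩
      exact hinv t
    · intro x hx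
      obtain ⟨t, ht, -⟩ := h x (hcompat x hx)
      exact ⟨t, ht⟩
  · rintro ⟨hinj, hrange⟩ x hx
    have hx' : x ∈ Set.range (P.map (hT.from Y).op) := by
      rw [hrange]
      intro g
      have := hx (σ g) (𝟙 Y) (hT.hom_ext _ _)
      simpa using this
    obtain ⟨t, ht⟩ := hx'
    exact ⟨t, ht, fun t' ht' => hinj (ht'.trans ht.symm)⟩

variable {X : Scheme.{u}}

/-- The disjoint union is the coproduct in the small étale category. -/
noncomputable def sigmaIsColimit {κ : Type u} [Finite κ] (Z : κ → X.Etale) :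
    IsColimit (Cofan.mk (sigmaE Z) (sigmaιE Z)) :=
  mkCofanColimit _ (fun s => sigmaDescE s.inj) (fun s i => sigmaι_desc s.inj i) (fun s m hm => by
    refine (Scheme.Etale.forget X ⋙ CategoryTheory.Over.forget X).map_injective (Sigma.hom_ext _ _ fun i => ?_)
    exact (congrArg (fun φ => φ.left) (hm i)).trans (Sigma.ι_desc (fun i => (s.inj i).left) i).symm)

theorem isSheaf_of_ab (F : EtCoh.Ab X) :
    Presieve.IsSheaf X.smallEtaleTopology (F.obj ⋙ CategoryTheory.forget AddCommGrpCat.{u + 1}) :=
  (isSheaf_iff_isSheaf_of_type _ _).1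
    ((sheafCompose X.smallEtaleTopology (CategoryTheory.forget AddCommGrpCat.{u + 1})).obj F).property

theorem subsingleton_of_isEmpty' (F : EtCoh.Ab X) (W : X.Etale) [IsEmpty W.left] :
    Subsingleton ((F.obj ⋙ CategoryTheory.forget AddCommGrpCat.{u + 1}).obj (op W)) :=
  ⟨fun a b => (isSheaf_of_ab F _ (HenselLib.Kummer.mem_of_points W ⊥ fun x => isEmptyElim x)).isSeparatedFor.ext
    fun _ _ h => h.elim⟩

/-- Sections of a sheaf on a finite disjoint union. -/
theorem bijective_sigma {κ : Type u} [Finite κ] (Z : κ → X.Etale) (F : EtCoh.Ab X) :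
    Function.Bijective (fun (s : (F.obj ⋙ CategoryTheory.forget AddCommGrpCat.{u + 1}).obj (op (sigmaE Z))) (i : κ) =>
      (F.obj ⋙ CategoryTheory.forget AddCommGrpCat.{u + 1}).map (sigmaιE Z i).op s) := by
  have hsh : Presieve.IsSheaf (zar X) (F.obj ⋙ CategoryTheory.forget AddCommGrpCat.{u + 1}) :=
    fun U S hS => isSheaf_of_ab F S (zar_le U hS)
  refine ⟨fun a b h => zar_ext hsh _ (mem_zar_sigma Z) (congrFun h), fun t => ?_⟩
  have hfor : Presieve.IsSheafFor (F.obj ⋙ CategoryTheory.forget AddCommGrpCat.{u + 1})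
      (Presieve.ofArrows Z (sigmaιE Z)) :=
    (Presieve.isSheafFor_iff_generate _).2 (hsh _ (mem_zar_sigma Z))
  have hcompat : Presieve.Arrows.Compatible (F.obj ⋙ CategoryTheory.forget AddCommGrpCat.{u + 1}) (sigmaιE Z) t := by
    intro i j W gi gj h
    by_cases hij : i = j
    · subst hij
      haveI : Mono (Sigma.ι (fun i => (Z i).left) i) := inferInstance
      have : gi = gj := (Scheme.Etale.forget X ⋙ CategoryTheory.Over.forget X).map_injective
        ((cancel_mono (Sigma.ι (fun i => (Z i).left) i)).1 (congrArg (fun φ => φ.left) h))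
      rw [this]
    · haveI : IsEmpty W.left := isEmpty_of_commSq_sigmaι_of_ne (g := fun i => (Z i).left)
        (a := gi.left) (b := gj.left) ⟨congrArg (fun φ => φ.left) h⟩ hij
      exact (subsingleton_of_isEmpty' F W).elim _ _
  obtain ⟨a, ha, -⟩ := (Presieve.isSheafFor_arrows_iff _ _).1 hfor t hcompat
  exact ⟨a, funext ha⟩

/-- Sections of a sheaf on any finite coproduct. -/
theorem bijective_cofan {κ : Type u} [Finite κ] {Z : κ → X.Etale} {W : X.Etale} (inj : ∀ i, Z i ⟶ W)
    (hc : IsColimit (Cofan.mk W inj)) (F : EtCoh.Ab X) :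
    Function.Bijective (fun (s : (F.obj ⋙ CategoryTheory.forget AddCommGrpCat.{u + 1}).obj (op W)) (i : κ) =>
      (F.obj ⋙ CategoryTheory.forget AddCommGrpCat.{u + 1}).map (inj i).op s) := by
  let e : sigmaE Z ≅ W := IsColimit.coconePointUniqueUpToIso (sigmaIsColimit Z) hc
  have he : ∀ i, sigmaιE Z i ≫ e.hom = inj i := fun i =>
    IsColimit.comp_coconePointUniqueUpToIso_hom (sigmaIsColimit Z) hc ⟨i⟩
  have := (bijective_sigma Z F).comp
    (ConcreteCategory.bijective_of_isIso ((F.obj ⋙ CategoryTheory.forget AddCommGrpCat.{u + 1}).map e.hom.op))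
  convert this using 1
  funext s i
  simp only [Function.comp_apply, ← Functor.map_comp_apply, ← op_comp, he]

end Groth.Agent.EtGal
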