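import Groth.Agent.EtGal.Flasque
import Groth.Agent.EtGal.SheafCond
import Groth.Agent.EtCechLib.Cartan
import Mathlib.Algebra.Category.Grp.Adjunctions

/-!
# Flasque sheaves have surjective restrictions along open immersions
-/

set_option autoImplicit false
set_option linter.all false
set_option backward.isDefEq.respectTransparency.types false
set_option backward.isDefEq.respectTransparency false
set_option backward.defeqAttrib.useBackward true
set_option synthInstance.maxHeartbeats 400000
set_option maxHeartbeats 1000000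

universe u

open CategoryTheory Limits AlgebraicGeometry Opposite

namespace Groth.Agent.EtGal

variable {X : Scheme.{u}}

/-- Restriction along a monomorphism is surjective for injective sheaves. -/
theorem surjective_map_of_injective (I : EtCoh.Ab X) [Injective I] {U V : X.Etale} (g : V ⟶ U) [Mono g] :
    Function.Surjective (I.obj.map g.op) := by
  haveI := EtCechLib.injective_obj I
  let fr := (Functor.whiskeringRight X.Etaleᵒᵖ (Type (u + 1)) AddCommGrpCat.{u + 1}).obj AddCommGrpCat.free.{u + 1}
  let adj := AddCommGrpCat.adj.{u + 1}.whiskerRight X.Etaleᵒᵖ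
  haveI : Mono (fr.map (uliftYoneda.{u + 1}.map g)) := by
    haveI : Mono (uliftYoneda.{u + 1}.map g) := inferInstance
    rw [NatTrans.mono_iff_mono_app]
    intro W
    exact inferInstanceAs (Mono (AddCommGrpCat.free.map ((uliftYoneda.{u + 1}.map g).app W)))
  intro x
  let x' := (adj.homEquiv _ I.obj).symm (uliftYonedaEquiv.{u + 1}.symm x)
  let y' := Injective.factorThru x' (fr.map (uliftYoneda.{u + 1}.map g))
  have hy : fr.map (uliftYoneda.{u + 1}.map g) ≫ y' = x' := Injective.comp_factorThru _ _
  refine ⟨uliftYonedaEquiv.{u + 1} (adj.homEquiv _ I.obj y'), ?_⟩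
  have h2 := congrArg (adj.homEquiv _ I.obj) hy
  rw [adj.homEquiv_naturality_left, Equiv.apply_symm_apply] at h2
  refine (uliftYonedaEquiv_naturality (adj.homEquiv _ I.obj y') g.op).trans ?_
  exact (congrArg uliftYonedaEquiv h2).trans (Equiv.apply_symm_apply _ _)

variable {U V : X.Etale} (g : V ⟶ U) [IsOpenImmersion g.left]

/-- Two copies of `U` glued along `V`. -/
noncomputable def doubled : X.Etale :=
  haveI : Etale (pushout.desc U.hom U.hom rfl : pushout g.left g.left ⟶ X) := by
    rw [IsZariskiLocalAtSource.iff_of_openCover (P := @Etale) (Scheme.IsLocallyDirected.openCover (span g.left g.left))]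
    intro i
    haveI : Etale U.hom := U.prop
    haveI : Etale V.hom := V.prop
    show Etale (colimit.ι (span g.left g.left) i ≫ pushout.desc U.hom U.hom rfl)
    obtain (_ | _ | _) := i
    · have h := colimit.w (span g.left g.left) WalkingSpan.Hom.fst
      rw [← h, Category.assoc]
      exact (show Etale (g.left ≫ pushout.inl g.left g.left ≫ pushout.desc U.hom U.hom rfl) by
        rw [pushout.inl_desc, CategoryTheory.Over.w g.hom]; infer_instance)
    · exact (show Etale (pushout.inl g.left g.left ≫ pushout.desc U.hom U.hom rfl) by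
        rw [pushout.inl_desc]; infer_instance)
    · exact (show Etale (pushout.inr g.left g.left ≫ pushout.desc U.hom U.hom rfl) by
        rw [pushout.inr_desc]; infer_instance)
  Scheme.Etale.mk (pushout.desc U.hom U.hom rfl : pushout g.left g.left ⟶ X)

/-- The first copy. -/
noncomputable def copy₁ : U ⟶ doubled g :=
  MorphismProperty.Over.homMk (pushout.inl g.left g.left) (pushout.inl_desc _ _ _) trivial

/-- The second copy. -/
noncomputable def copy₂ : U ⟶ doubled g :=
  MorphismProperty.Over.homMk (pushout.inr g.left g.left) (pushout.inr_desc _ _ _) trivial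

/-- The fold map. -/
noncomputable def fold : doubled g ⟶ U :=
  MorphismProperty.Over.homMk (pushout.desc (𝟙 _) (𝟙 _) rfl) (pushout.hom_ext (by
    show pushout.inl g.left g.left ≫ _ ≫ U.hom = pushout.inl g.left g.left ≫ pushout.desc U.hom U.hom rfl
    rw [pushout.inl_desc_assoc, Category.id_comp, pushout.inl_desc]) (by
    show pushout.inr g.left g.left ≫ _ ≫ U.hom = pushout.inr g.left g.left ≫ pushout.desc U.hom U.hom rfl
    rw [pushout.inr_desc_assoc, Category.id_comp, pushout.inr_desc])) trivial

theorem copy₁_fold : copy₁ g ≫ fold g = 𝟙 U :=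
  (Scheme.Etale.forget X ⋙ CategoryTheory.Over.forget X).map_injective (pushout.inl_desc _ _ _)

theorem copy₂_fold : copy₂ g ≫ fold g = 𝟙 U :=
  (Scheme.Etale.forget X ⋙ CategoryTheory.Over.forget X).map_injective (pushout.inr_desc _ _ _)

theorem g_copy : g ≫ copy₁ g = g ≫ copy₂ g :=
  (Scheme.Etale.forget X ⋙ CategoryTheory.Over.forget X).map_injective pushout.condition

theorem mem_range_of_eq {Z : X.Etale} (a b : Z ⟶ U) (h : a ≫ copy₁ g = b ≫ copy₂ g) :
    a = b ∧ ∃ c : Z ⟶ V, c ≫ g = a := by
  have hab : a = b := by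
    have := congrArg (fun m => m ≫ fold g) h
    simpa only [Category.assoc, copy₁_fold, copy₂_fold, Category.comp_id] using this
  subst hab
  refine ⟨rfl, ?_⟩
  have hr : Set.range a.left ⊆ Set.range g.left := by
    rintro _ ⟨z, rfl⟩
    have hz : colimit.ι (span g.left g.left) WalkingSpan.left (a.left z) =
        colimit.ι (span g.left g.left) WalkingSpan.right (a.left z) := congrArg (fun m => m.left z) h
    obtain ⟨k, fi, fj, x, hx, -⟩ := (Scheme.IsLocallyDirected.ι_eq_ι_iff _).1 hz
    obtain (_ | _ | _) := k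
    · obtain rfl : fi = WalkingSpan.Hom.fst := Subsingleton.elim _ _
      exact ⟨x, hx⟩
    · cases (show WidePushoutShape.Hom (some WalkingPair.left) (some WalkingPair.right) from fj)
    · cases (show WidePushoutShape.Hom (some WalkingPair.right) (some WalkingPair.left) from fi)
  refine ⟨MorphismProperty.Over.homMk (IsOpenImmersion.lift g.left a.left hr) ?_ trivial,
    (Scheme.Etale.forget X ⋙ CategoryTheory.Over.forget X).map_injective (IsOpenImmersion.lift_fac _ _ hr)⟩
  show IsOpenImmersion.lift g.left a.left hr ≫ V.hom = Z.hom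
  refine (congrArg (fun m => IsOpenImmersion.lift g.left a.left hr ≫ m) (CategoryTheory.Over.w g.hom).symm).trans ?_
  exact (Category.assoc _ _ _).symm.trans ((congrArg (fun m => m ≫ U.hom) (IsOpenImmersion.lift_fac _ _ hr)).trans
    (CategoryTheory.Over.w a.hom))

theorem exists_glue (P : EtCoh.Ab X) (q₁ q₂ : P.obj.obj (op U)) (h : P.obj.map g.op q₁ = P.obj.map g.op q₂) :
    ∃ q : P.obj.obj (op (doubled g)), P.obj.map (copy₁ g).op q = q₁ ∧ P.obj.map (copy₂ g).op q = q₂ := by
  let f : Bool → (U ⟶ doubled g) := fun i => bif i then copy₁ g else copy₂ g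
  have hmem : Sieve.ofArrows (fun _ : Bool => U) f ∈ X.smallEtaleTopology (doubled g) :=
    HenselLib.Kummer.mem_of_points _ _ fun x => by
      obtain ⟨i, y, hy⟩ := (Scheme.IsLocallyDirected.openCover (span g.left g.left)).exists_eq x
      obtain (_ | _ | _) := i
      · refine ⟨U, copy₁ g, g.left y, Sieve.ofArrows_mk _ f true, ?_⟩
        exact (congrArg (fun m => m y) (colimit.w (span g.left g.left) WalkingSpan.Hom.fst)).trans hy
      · exact ⟨U, copy₁ g, y, Sieve.ofArrows_mk _ f true, hy⟩
      · exact ⟨U, copy₂ g, y, Sieve.ofArrows_mk _ f false, hy⟩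
  have hfor : Presieve.IsSheafFor (P.obj ⋙ CategoryTheory.forget AddCommGrpCat.{u + 1}) (Presieve.ofArrows (fun _ : Bool => U) f) :=
    (Presieve.isSheafFor_iff_generate _).2 (isSheaf_of_ab P _ hmem)
  let t : Bool → (P.obj ⋙ CategoryTheory.forget AddCommGrpCat.{u + 1}).obj (op U) := fun i => bif i then q₁ else q₂
  have key : ∀ {Z : X.Etale} (a b : Z ⟶ U), a ≫ copy₁ g = b ≫ copy₂ g → P.obj.map a.op q₁ = P.obj.map b.op q₂ := by
    intro Z a b hab
    obtain ⟨rfl, c, rfl⟩ := mem_range_of_eq g a b hab
    rw [op_comp, Functor.map_comp_apply, Functor.map_comp_apply, h]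
  have hcompat : Presieve.Arrows.Compatible (P.obj ⋙ CategoryTheory.forget AddCommGrpCat.{u + 1}) f t := by
    intro i j Z a b hab
    have hcan : ∀ {c : U ⟶ doubled g}, c ≫ fold g = 𝟙 U → a ≫ c = b ≫ c → a = b := fun hc h' => by
      have := congrArg (fun m => m ≫ fold g) h'
      simpa only [Category.assoc, hc, Category.comp_id] using this
    cases i <;> cases j
    · obtain rfl := hcan (copy₂_fold g) hab
      rfl
    · exact (key b a hab.symm).symm
    · exact key a b hab
    · obtain rfl := hcan (copy₁_fold g) hab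
      rfl
  obtain ⟨q, hq, -⟩ := (Presieve.isSheafFor_arrows_iff _ _).1 hfor t hcompat
  exact ⟨q, hq true, hq false⟩

theorem surjective_restriction {F : EtCoh.Ab X} (hF : Flasque F) : Function.Surjective (F.obj.map g.op) := by
  intro s
  let S := SiteCoh.injEmbed F
  have hS : S.ShortExact := SiteCoh.injEmbed_shortExact F
  haveI : Injective S.X₂ := inferInstanceAs (Injective (Injective.under F))
  haveI : Mono g := (Scheme.Etale.forget X ⋙ CategoryTheory.Over.forget X).mono_of_mono_map
    (inferInstanceAs (Mono g.left))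
  obtain ⟨e, he⟩ := surjective_map_of_injective S.X₂ g (S.f.hom.app (op V) s)
  obtain ⟨q, hq₁, hq₂⟩ := exists_glue g S.X₃ (S.g.hom.app (op U) e) 0 (by
    rw [map_zero, ← NatTrans.naturality_apply, he]
    exact EtCechLib.sections_comp_eq_zero (S := S) V s)
  obtain ⟨i, hi⟩ := surjective_sections hS hF (doubled g) q
  have h₁ : S.g.hom.app (op U) (S.X₂.obj.map (copy₁ g).op i - e) = 0 := by
    rw [map_sub, NatTrans.naturality_apply, hi, hq₁, sub_self]
  have h₂ : S.g.hom.app (op U) (S.X₂.obj.map (copy₂ g).op i) = 0 := by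
    rw [NatTrans.naturality_apply, hi, hq₂]
  obtain ⟨t₁, ht₁⟩ := EtCechLib.sections_exact hS U _ h₁
  obtain ⟨t₂, ht₂⟩ := EtCechLib.sections_exact hS U _ h₂
  refine ⟨t₂ - t₁, ?_⟩
  haveI := hS.mono_f
  apply EtCechLib.sections_injective S.f V
  rw [NatTrans.naturality_apply, map_sub, ht₁, ht₂, map_sub, map_sub, ← Functor.map_comp_apply,
    ← Functor.map_comp_apply, ← op_comp, ← op_comp, g_copy, he]
  abel

end Groth.Agent.EtGal
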