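import Groth.Agent.EtGal.SheafCond
import Groth.Prelude.Def_EtCech
import Mathlib.CategoryTheory.Limits.FormalCoproducts.Cech
import Mathlib.CategoryTheory.Sites.SheafCohomology.Cech

/-!
# The Čech complex of a finite family and of its disjoint union
-/

set_option autoImplicit false
set_option linter.all false
set_option backward.isDefEq.respectTransparency false
set_option backward.isDefEq.respectTransparency.types false
set_option backward.defeqAttrib.useBackward true
set_option synthInstance.maxHeartbeats 400000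

universe w v u

open CategoryTheory Limits AlgebraicGeometry Opposite

namespace Groth.Agent.EtGal

variable {X : Scheme.{u}}

/-- Sections of a sheaf on the target of a disjoint jointly surjective family of monomorphisms. -/
theorem bijective_disjoint {κ : Type (u + 1)} {S : κ → X.Etale} {T : X.Etale} (g : ∀ i, S i ⟶ T)
    [∀ i, Mono (g i)] (hcov : ∀ x : T.left, ∃ i, x ∈ Set.range (g i).left)
    (hdisj : ∀ i j (y : (S i).left) (z : (S j).left), (g i).left y = (g j).left z → i = j)
    (F : EtCoh.Ab X) :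
    Function.Bijective (fun (s : (F.obj ⋙ CategoryTheory.forget AddCommGrpCat.{u + 1}).obj (op T)) (i : κ) =>
      (F.obj ⋙ CategoryTheory.forget AddCommGrpCat.{u + 1}).map (g i).op s) := by
  have hmem : Sieve.ofArrows S g ∈ X.smallEtaleTopology T :=
    HenselLib.Kummer.mem_of_points T _ fun x => by
      obtain ⟨i, y, hy⟩ := hcov x
      exact ⟨S i, g i, y, Sieve.ofArrows_mk _ _ i, hy⟩
  have hfor : Presieve.IsSheafFor (F.obj ⋙ CategoryTheory.forget AddCommGrpCat.{u + 1})
      (Presieve.ofArrows S g) := (Presieve.isSheafFor_iff_generate _).2 (isSheaf_of_ab F _ hmem)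
  refine ⟨fun a b h => hfor.isSeparatedFor.ext fun _ _ hf => ?_, fun t => ?_⟩
  · obtain ⟨i⟩ := hf
    exact congrFun h i
  · have hcompat : Presieve.Arrows.Compatible (F.obj ⋙ CategoryTheory.forget AddCommGrpCat.{u + 1}) g t := by
      intro i j W gi gj h
      by_cases hij : i = j
      · subst hij
        rw [(cancel_mono (g i)).1 h]
      · haveI : IsEmpty W.left := ⟨fun w => hij (hdisj i j (gi.left w) (gj.left w)
          (congrArg (fun φ => φ.left w) h))⟩
        exact (subsingleton_of_isEmpty' F W).elim _ _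
    obtain ⟨a, ha, -⟩ := (Presieve.isSheafFor_arrows_iff _ _).1 hfor t hcompat
    exact ⟨a, funext ha⟩

section Product

variable {U : X.Etale} {ι : Type (u + 1)} {Uf : ι → Over U} {V : Over U} (incl : ∀ i, Uf i ⟶ V)
  [∀ i, IsOpenImmersion (incl i).left.left]

theorem mono_incl (i : ι) : Mono (incl i) :=
  ((Over.forget U ⋙ Scheme.Etale.forget X ⋙ CategoryTheory.Over.forget X)).mono_of_mono_map
    (inferInstanceAs (Mono (incl i).left.left))

/-- The inclusion of a product of members into the power of the disjoint union. -/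
noncomputable abbrev powIncl [HasFiniteProducts (Over U)] {n : ℕ} (i : Fin n → ι) :
    (∏ᶜ fun a => Uf (i a)) ⟶ ∏ᶜ fun _ : Fin n => V :=
  Limits.Pi.map fun a => incl (i a)

theorem mono_powIncl_left [HasFiniteProducts (Over U)] {n : ℕ} (i : Fin n → ι) :
    Mono (powIncl incl i).left := by
  haveI : Mono (powIncl incl i) := ⟨fun h₁ h₂ h => Limits.Pi.hom_ext _ _ fun a => by
    haveI := mono_incl incl (i a)
    rw [← cancel_mono (incl (i a)), Category.assoc, Category.assoc,
      ← Limits.Pi.map_π (fun a => incl (i a)) a, ← Category.assoc, ← Category.assoc]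
    exact congrArg (fun k => k ≫ Limits.Pi.π _ a) h⟩
  refine ⟨fun {Z} h₁ h₂ h => ?_⟩
  have hw : h₁ ≫ (∏ᶜ fun a => Uf (i a)).hom = h₂ ≫ (∏ᶜ fun a => Uf (i a)).hom := by
    rw [← CategoryTheory.Over.w (powIncl incl i), reassoc_of% h]
  let Z' : Over U := Over.mk (h₁ ≫ (∏ᶜ fun a => Uf (i a)).hom)
  let k₁ : Z' ⟶ ∏ᶜ fun a => Uf (i a) := Over.homMk h₁ rfl
  let k₂ : Z' ⟶ ∏ᶜ fun a => Uf (i a) := Over.homMk h₂ hw.symm
  have : k₁ = k₂ := (cancel_mono (powIncl incl i)).1 ((Over.forget U).map_injective h)
  exact congrArg (fun k => k.left) this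

theorem powIncl_cover [HasFiniteProducts (Over U)] (hcov : ∀ x : V.left.left, ∃ i, x ∈ Set.range (incl i).left.left)
    {n : ℕ} (z : (∏ᶜ fun _ : Fin n => V).left.left) :
    ∃ i : Fin n → ι, z ∈ Set.range (powIncl incl i).left.left := by
  classical
  choose i hi using fun a : Fin n => hcov ((Limits.Pi.π (fun _ : Fin n => V) a).left.left z)
  refine ⟨i, ?_⟩
  let T : Over U := ∏ᶜ fun _ : Fin n => V
  let O : T.left.left.Opens :=
    ⟨⋂ a, (Limits.Pi.π (fun _ : Fin n => V) a).left.left ⁻¹' Set.range (incl (i a)).left.left,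
      isOpen_iInter_of_finite fun a => ((incl (i a)).left.left.isOpenEmbedding.isOpen_range).preimage
        ((Limits.Pi.π (fun _ : Fin n => V) a).left.left.continuous)⟩
  have hzO : z ∈ O := Set.mem_iInter.2 hi
  haveI : Etale T.left.hom := T.left.prop
  let W : X.Etale := Scheme.Etale.mk (O.ι ≫ T.left.hom)
  let w : W ⟶ T.left := MorphismProperty.Over.homMk O.ι rfl trivial
  let l : ∀ a, W.left ⟶ (Uf (i a)).left.left := fun a =>
    IsOpenImmersion.lift (incl (i a)).left.left (O.ι ≫ (Limits.Pi.π (fun _ : Fin n => V) a).left.left) (by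
      rintro _ ⟨y, rfl⟩
      exact Set.mem_iInter.1 y.2 a)
  have hl : ∀ a, l a ≫ (incl (i a)).left.left = O.ι ≫ (Limits.Pi.π (fun _ : Fin n => V) a).left.left :=
    fun a => IsOpenImmersion.lift_fac _ _ _
  let le : ∀ a, W ⟶ (Uf (i a)).left := fun a => MorphismProperty.Over.homMk (l a) (by
    change l a ≫ (Uf (i a)).left.hom = O.ι ≫ T.left.hom
    have h1 := CategoryTheory.Over.w (incl (i a)).left.hom
    have h2 := CategoryTheory.Over.w (Limits.Pi.π (fun _ : Fin n => V) a).left.hom
    refine (congrArg (fun m => l a ≫ m) h1.symm).trans ?_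
    refine ((Category.assoc _ _ _).symm.trans ((congrArg (fun m => m ≫ V.left.hom) (hl a)).trans (Category.assoc _ _ _))).trans ?_
    exact congrArg (fun m => O.ι ≫ m) h2) trivial
  have hle : ∀ a, le a ≫ (incl (i a)).left = w ≫ (Limits.Pi.π (fun _ : Fin n => V) a).left := fun a =>
    (Scheme.Etale.forget X ⋙ CategoryTheory.Over.forget X).map_injective (hl a)
  let W' : Over U := Over.mk (w ≫ T.hom)
  let k : W' ⟶ ∏ᶜ fun a => Uf (i a) := Limits.Pi.lift fun a => Over.homMk (le a) (by
    show le a ≫ (Uf (i a)).hom = w ≫ T.hom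
    rw [← CategoryTheory.Over.w (incl (i a)), reassoc_of% hle a, CategoryTheory.Over.w])
  have hk : k ≫ powIncl incl i = Over.homMk w rfl := Limits.Pi.hom_ext _ _ fun a => by
    rw [Category.assoc, Limits.Pi.map_π, Limits.Pi.lift_π_assoc]
    exact (Over.forget U).map_injective (hle a)
  exact ⟨k.left.left ⟨z, hzO⟩, congrArg (fun m => m.left.left ⟨z, hzO⟩) hk⟩

theorem powIncl_disjoint [HasFiniteProducts (Over U)]
    (hdisj : ∀ i j (y : (Uf i).left.left) (z : (Uf j).left.left), (incl i).left.left y = (incl j).left.left z → i = j)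
    {n : ℕ} (i j : Fin n → ι) (y : (∏ᶜ fun a => Uf (i a)).left.left) (z : (∏ᶜ fun a => Uf (j a)).left.left)
    (h : (powIncl incl i).left.left y = (powIncl incl j).left.left z) : i = j :=
  funext fun a => hdisj _ _ ((Limits.Pi.π (fun a => Uf (i a)) a).left.left y) ((Limits.Pi.π (fun a => Uf (j a)) a).left.left z) (by
    have e₁ := congrArg (fun m => m.left.left y) (Limits.Pi.map_π (fun a => incl (i a)) a)
    have e₂ := congrArg (fun m => m.left.left z) (Limits.Pi.map_π (fun a => incl (j a)) a)
    exact e₁.symm.trans ((congrArg _ h).trans e₂))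

variable [HasFiniteProducts (Over U)]

/-- The morphism of formal coproducts from the family to its disjoint union. -/
noncomputable def famHom : FormalCoproduct.mk ι Uf ⟶ FormalCoproduct.mk PUnit.{u + 2} fun _ => V where
  f _ := PUnit.unit
  φ i := incl i

/-- The comparison map of Čech complexes. -/
noncomputable def cechMap (P : (Over U)ᵒᵖ ⥤ AddCommGrpCat.{u + 1}) :
    (cechComplexFunctor (fun _ : PUnit.{u + 2} => V)).obj P ⟶ (cechComplexFunctor Uf).obj P :=
  (AlgebraicTopology.alternatingCofaceMapComplex _).map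
    (Functor.whiskerRight (NatTrans.rightOp (FormalCoproduct.cechFunctor.map (famHom incl)))
      ((FormalCoproduct.evalOp.{u + 1} (Over U) AddCommGrpCat.{u + 1}).obj P))

theorem isIso_cechMap (F : EtCoh.Ab X)
    (hcov : ∀ x : V.left.left, ∃ i, x ∈ Set.range (incl i).left.left)
    (hdisj : ∀ i j (y : (Uf i).left.left) (z : (Uf j).left.left), (incl i).left.left y = (incl j).left.left z → i = j) :
    IsIso (cechMap incl ((Over.forget U).op ⋙ F.obj)) := by
  classical
  let P := (Over.forget U).op ⋙ F.obj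
  have hiso : ∀ n : ℕ, IsIso (Limits.Pi.lift fun i : Fin (n + 1) → ι =>
      Limits.Pi.π (fun j : Fin (n + 1) → PUnit.{u + 2} => P.obj (op (∏ᶜ fun _ : Fin (n + 1) => V))) (fun _ => PUnit.unit) ≫
        P.map (powIncl incl i).op) := by
    intro n
    haveI : ∀ i : Fin (n + 1) → ι, Mono (powIncl incl i).left := fun i => mono_powIncl_left incl i
    have hb := bijective_disjoint (fun i : Fin (n + 1) → ι => (powIncl incl i).left)
      (fun x => powIncl_cover incl hcov x) (fun i j y z h => powIncl_disjoint incl hdisj i j y z h) F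
    let q : P.obj (op (∏ᶜ fun _ : Fin (n + 1) => V)) ⟶ ∏ᶜ fun i : Fin (n + 1) → ι => P.obj (op (∏ᶜ fun a => Uf (i a))) :=
      Limits.Pi.lift fun i => P.map (powIncl incl i).op
    haveI : IsIso q := (ConcreteCategory.isIso_iff_bijective _).2 (by
      have hp : Function.Bijective (Concrete.productEquiv.{u + 1} (fun i : Fin (n + 1) → ι => P.obj (op (∏ᶜ fun a => Uf (i a)))) ∘ q) := by
        have e : (Concrete.productEquiv.{u + 1} (fun i : Fin (n + 1) → ι => P.obj (op (∏ᶜ fun a => Uf (i a)))) ∘ q) =
            fun s i => P.map (powIncl incl i).op s := funext fun s => funext fun i => by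
          simp only [Function.comp_apply, Concrete.productEquiv_apply_apply, q, ← ConcreteCategory.comp_apply, Limits.Pi.lift_π]
        rw [e]
        exact hb
      exact (Equiv.comp_bijective _ _).1 hp)
    haveI : IsIso (Limits.Pi.π (fun j : Fin (n + 1) → PUnit.{u + 2} => P.obj (op (∏ᶜ fun _ : Fin (n + 1) => V))) (fun _ => PUnit.unit)) :=
      ⟨⟨Limits.Pi.lift fun _ => 𝟙 _, Limits.Pi.hom_ext _ _ fun j => by
        rw [Category.assoc, Limits.Pi.lift_π, Category.comp_id, Category.id_comp, Subsingleton.elim j (fun _ => PUnit.unit)],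
        Limits.Pi.lift_π _ _⟩⟩
    have : IsIso (Limits.Pi.π (fun j : Fin (n + 1) → PUnit.{u + 2} => P.obj (op (∏ᶜ fun _ : Fin (n + 1) => V))) (fun _ => PUnit.unit) ≫ q) :=
      inferInstance
    convert this using 1
    exact Limits.Pi.hom_ext _ _ fun i => by simp [q]
  haveI : ∀ n : SimplexCategory, IsIso ((Functor.whiskerRight (NatTrans.rightOp (FormalCoproduct.cechFunctor.map (famHom incl)))
      ((FormalCoproduct.evalOp.{u + 1} (Over U) AddCommGrpCat.{u + 1}).obj P)).app n) :=
    fun n => hiso n.len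
  haveI := NatIso.isIso_of_isIso_app (Functor.whiskerRight (NatTrans.rightOp (FormalCoproduct.cechFunctor.map (famHom incl)))
      ((FormalCoproduct.evalOp.{u + 1} (Over U) AddCommGrpCat.{u + 1}).obj P))
  exact Functor.map_isIso (AlgebraicTopology.alternatingCofaceMapComplex _) _

end Product

end Groth.Agent.EtGal
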