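import Groth.Agent.Et18.ExtZero
import Groth.Agent.Et18.Restr
import Groth.Agent.Et18.JCont
import Groth.Agent.SiteCoh.Basics
import Mathlib.CategoryTheory.Sites.ConstantSheaf
import Groth.Agent.SiteCoh.ExtAcyclic
import Groth.Prelude.Def_EtCore

/-!
# Flasque sheaves on the small étale site and their direct images
-/

set_option autoImplicit false
set_option linter.all false
set_option backward.isDefEq.respectTransparency.types false
set_option backward.isDefEq.respectTransparency false
set_option backward.defeqAttrib.useBackward true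
set_option synthInstance.maxHeartbeats 400000
set_option maxHeartbeats 1000000

universe u

open CategoryTheory Limits AlgebraicGeometry Opposite CategoryTheory.Abelian
open Groth.Agent.SiteCoh

namespace Groth.Agent.EtGal

/-- Vanishing of higher cohomology on every étale object. -/
def Flasque {X : Scheme.{u}} (F : EtCoh.Ab X) : Prop :=
  ∀ (W : X.Etale) (q : ℕ), 0 < q → Subsingleton (EtCoh.H W.left ((EtCoh.pull W.hom).obj F) q)

variable {X Y : Scheme.{u}}

/-- A morphism of sheaves is surjective on global sections iff every map from the constant sheaf lifts. -/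
theorem surjective_top_iff {Z : Scheme.{u}} {G H : EtCoh.Ab Z} (g : G ⟶ H) :
    Function.Surjective (g.hom.app (op (EtCoh.top Z))) ↔
      ∀ a : (constantSheaf Z.smallEtaleTopology AddCommGrpCat.{u + 1}).obj (AddCommGrpCat.of (ULift.{u + 1} ℤ)) ⟶ H,
        ∃ b, b ≫ g = a := by
  let adj := constantSheafAdj Z.smallEtaleTopology AddCommGrpCat.{u + 1} (EtCore.topIsTerminal Z)
  let Z1 : AddCommGrpCat.{u + 1} := AddCommGrpCat.of (ULift.{u + 1} ℤ)
  constructor
  · intro h a
    obtain ⟨x, hx⟩ := h ((adj.homEquiv Z1 H a) (ULift.up 1))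
    refine ⟨(adj.homEquiv Z1 G).symm (AddCommGrpCat.ofHom (uliftZMultiplesHom _ x)), ?_⟩
    apply (adj.homEquiv Z1 H).injective
    rw [adj.homEquiv_naturality_right, Equiv.apply_symm_apply]
    refine AddCommGrpCat.hom_ext ((uliftZMultiplesHom _).symm.injective ?_)
    exact (congrArg (g.hom.app (op (EtCoh.top Z))) (one_zsmul x)).trans hx
  · intro h y
    obtain ⟨b, hb⟩ := h ((adj.homEquiv Z1 H).symm (AddCommGrpCat.ofHom (uliftZMultiplesHom _ y)))
    refine ⟨adj.homEquiv Z1 G b (ULift.up 1), ?_⟩
    have := congrArg (fun m => m (ULift.up 1)) (congrArg (adj.homEquiv Z1 H) hb)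
    rw [adj.homEquiv_naturality_right] at this
    refine this.trans ?_
    rw [Equiv.apply_symm_apply]
    exact one_zsmul y

theorem surjective_sections {S : ShortComplex (EtCoh.Ab X)} (hS : S.ShortExact) (h : Flasque S.X₁) (W : X.Etale) :
    Function.Surjective (S.g.hom.app (op W)) := by
  haveI : Etale W.hom := W.prop
  haveI := Et18.jCont W.hom
  let r := EtShriek.restrAlong W.hom
  haveI : PreservesFiniteLimits r := inferInstance
  haveI : PreservesFiniteColimits r := inferInstance
  haveI : r.PreservesZeroMorphisms := inferInstance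
  have hS' : (S.map r).ShortExact := hS.map_of_exact r
  let hT := EtCore.topIsTerminal W.left
  have h1 : Subsingleton (Sheaf.H ((EtCoh.pull W.hom).obj S.X₁) 1) := h W 1 one_pos
  have h2 : Subsingleton (Sheaf.H (r.obj S.X₁) 1) := by
    let e := (Et18.pullRestrIso W.hom).app S.X₁
    refine ⟨fun a b => ?_⟩
    have := congrArg (fun x : Ext _ _ 1 => x.comp (Ext.mk₀ e.hom) (add_zero 1))
      (Subsingleton.elim (Ext.comp (show Ext _ _ 1 from a) (Ext.mk₀ e.inv) (add_zero 1) : Sheaf.H ((EtCoh.pull W.hom).obj S.X₁) 1)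
        (Ext.comp (show Ext _ _ 1 from b) (Ext.mk₀ e.inv) (add_zero 1)))
    simpa [Ext.comp_assoc_of_second_deg_zero, Ext.mk₀_comp_mk₀] using this
  have hsurj : Function.Surjective (S.g.hom.app (op ((EtShriek.compEtale W.hom).obj (EtCoh.top W.left)))) :=
    (surjective_top_iff (S.map r).g).2 fun a => exists_comp_eq_of_subsingleton_ext hS' h2 a
  let e : (EtShriek.compEtale W.hom).obj (EtCoh.top W.left) ≅ W :=
    MorphismProperty.Over.isoMk (Iso.refl _) (by
      show 𝟙 W.left ≫ W.hom = 𝟙 W.left ≫ W.hom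
      rfl)
  intro y
  obtain ⟨x, hx⟩ := hsurj (S.X₃.obj.map e.hom.op y)
  refine ⟨S.X₂.obj.map e.inv.op x, ?_⟩
  rw [NatTrans.naturality_apply, hx, ← Functor.map_comp_apply, ← op_comp, e.inv_hom_id, op_id,
    Functor.map_id_apply]

theorem Flasque.quotient {S : ShortComplex (EtCoh.Ab X)} (hS : S.ShortExact) (h : Flasque S.X₁) [Injective S.X₂] :
    Flasque S.X₃ := by
  intro W q hq
  haveI : Etale W.hom := W.prop
  haveI := Et18.jCont W.hom
  haveI : PreservesFiniteLimits (EtCoh.pull W.hom) := preservesFiniteLimits_of_natIso (Et18.pullRestrIso W.hom).symm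
  haveI : PreservesFiniteColimits (EtCoh.pull W.hom) :=
    have : PreservesColimitsOfSize.{0, 0} (EtCoh.pull W.hom) := (EtCoh.pullPushAdj W.hom).leftAdjoint_preservesColimits
    PreservesColimitsOfSize.preservesFiniteColimits _
  haveI : Injective ((EtCoh.pull W.hom).obj S.X₂) :=
    have := Injective.injective_of_adjoint (EtShriek.extZeroAdj W.hom) S.X₂
    Injective.of_iso ((Et18.pullRestrIso W.hom).app S.X₂).symm inferInstance
  have hS' := hS.map_of_exact (EtCoh.pull W.hom)
  refine ⟨fun a b => ?_⟩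
  have key : ∀ x : Ext ((constantSheaf W.left.smallEtaleTopology AddCommGrpCat.{u + 1}).obj
      (AddCommGrpCat.of (ULift.{u + 1} ℤ))) ((EtCoh.pull W.hom).obj S.X₃) q, x = 0 := fun x => by
    haveI : Subsingleton (Ext ((constantSheaf W.left.smallEtaleTopology AddCommGrpCat.{u + 1}).obj
        (AddCommGrpCat.of (ULift.{u + 1} ℤ))) (S.map (EtCoh.pull W.hom)).X₁ (q + 1)) := h W (q + 1) (Nat.succ_pos _)
    obtain ⟨z, hz⟩ := Ext.covariant_sequence_exact₃ _ hS' x (rfl : q + 1 = q + 1) (Subsingleton.elim _ _)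
    obtain ⟨p, rfl⟩ := Nat.exists_eq_succ_of_ne_zero hq.ne'
    haveI := Ext.subsingleton_of_injective ((constantSheaf W.left.smallEtaleTopology AddCommGrpCat.{u + 1}).obj
        (AddCommGrpCat.of (ULift.{u + 1} ℤ))) ((EtCoh.pull W.hom).obj S.X₂) p
    haveI : Subsingleton (Ext ((constantSheaf W.left.smallEtaleTopology AddCommGrpCat.{u + 1}).obj
        (AddCommGrpCat.of (ULift.{u + 1} ℤ))) (S.map (EtCoh.pull W.hom)).X₂ p.succ) := this
    rw [← hz, show z = 0 from Subsingleton.elim _ _, Ext.zero_comp]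
  exact (key a).trans (key b).symm

theorem push_flasque (f : X ⟶ Y) [PreservesFiniteLimits (EtCoh.pull f)] :
    ∀ (q : ℕ) (F : EtCoh.Ab X), Flasque F → ∀ W' : Y.Etale,
      Subsingleton (EtCoh.H W'.left ((EtCoh.pull W'.hom).obj ((EtCoh.push f).obj F)) (q + 1)) := by
  intro q F hF W'
  haveI : Etale W'.hom := W'.prop
  haveI := Et18.jCont W'.hom
  haveI : PreservesFiniteLimits (EtCoh.pull W'.hom) := preservesFiniteLimits_of_natIso (Et18.pullRestrIso W'.hom).symm
  haveI : PreservesFiniteColimits (EtCoh.pull W'.hom) :=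
    have : PreservesColimitsOfSize.{0, 0} (EtCoh.pull W'.hom) := (EtCoh.pullPushAdj W'.hom).leftAdjoint_preservesColimits
    PreservesColimitsOfSize.preservesFiniteColimits _
  refine subsingleton_ext_of_class
    (fun G => ∃ F : EtCoh.Ab X, Flasque F ∧ Nonempty (G ≅ (EtCoh.pull W'.hom).obj ((EtCoh.push f).obj F)))
    (fun Z => Z = (constantSheaf W'.left.smallEtaleTopology AddCommGrpCat.{u + 1}).obj (AddCommGrpCat.of (ULift.{u + 1} ℤ)))
    ?_ rfl ⟨F, hF, ⟨Iso.refl _⟩⟩ q
  rintro G ⟨F, hF, ⟨eG⟩⟩
  let S := injEmbed F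
  have hS : S.ShortExact := injEmbed_shortExact F
  haveI : Injective S.X₂ := inferInstanceAs (Injective (Injective.under F))
  haveI : PreservesLimits (EtCoh.push f) := (EtCoh.pullPushAdj f).rightAdjoint_preservesLimits
  haveI hmono := hS.mono_f
  haveI : Epi ((EtCoh.push f).map S.g) := by
    refine (Sheaf.isLocallySurjective_iff_epi' AddCommGrpCat.{u + 1} ((EtCoh.push f).map S.g)).1
      (Presheaf.isLocallySurjective_of_surjective _ _ fun U => ?_)
    exact surjective_sections hS hF ((EtCoh.bc f).obj U.unop)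
  have hS1 : (S.map (EtCoh.push f)).ShortExact := by
    haveI : Mono (S.map (EtCoh.push f)).f := inferInstanceAs (Mono ((EtCoh.push f).map S.f))
    haveI : Epi (S.map (EtCoh.push f)).g := inferInstanceAs (Epi ((EtCoh.push f).map S.g))
    exact { exact := hS.exact.map_of_mono_of_preservesKernel (EtCoh.push f) hS.mono_f inferInstance }
  have hS2 := hS1.map_of_exact (EtCoh.pull W'.hom)
  let S2 := (S.map (EtCoh.push f)).map (EtCoh.pull W'.hom)
  haveI : Injective S2.X₂ := by
    have := Injective.injective_of_adjoint (EtCoh.pullPushAdj f) S.X₂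
    have := Injective.injective_of_adjoint (EtShriek.extZeroAdj W'.hom) ((EtCoh.push f).obj S.X₂)
    exact Injective.of_iso ((Et18.pullRestrIso W'.hom).app ((EtCoh.push f).obj S.X₂)).symm inferInstance
  refine ⟨S2.X₂, S2.X₃, eG.hom ≫ S2.f, S2.g, (Category.assoc _ _ _).trans ?_, inferInstance, ?_,
    ⟨S.X₃, hF.quotient hS, ⟨Iso.refl _⟩⟩, ?_⟩
  · exact (congrArg (eG.hom ≫ ·) S2.zero).trans comp_zero
  · refine ShortComplex.shortExact_of_iso ?_ hS2
    exact ShortComplex.isoMk eG.symm (Iso.refl _) (Iso.refl _) (by simp [S2]) (by simp [S2])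
  · rintro _ rfl
    show ∀ a, _
    intro a
    have hg : Function.Surjective (S2.g.hom.app (op (EtCoh.top W'.left))) := by
      have hr : Function.Surjective
          (((EtShriek.restrAlong W'.hom).map ((EtCoh.push f).map S.g)).hom.app (op (EtCoh.top W'.left))) :=
        surjective_sections hS hF _
      intro y
      let η := Et18.pullRestrIso W'.hom
      obtain ⟨x, hx⟩ := hr ((η.hom.app ((EtCoh.push f).obj S.X₃)).hom.app _ y)
      refine ⟨(η.inv.app ((EtCoh.push f).obj S.X₂)).hom.app _ x, ?_⟩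
      have n1 := ConcreteCategory.congr_hom (congrArg (fun m => m.hom.app (op (EtCoh.top W'.left)))
        (η.inv.naturality ((EtCoh.push f).map S.g))) x
      refine n1.symm.trans ((congrArg ((η.inv.app ((EtCoh.push f).obj S.X₃)).hom.app _) hx).trans ?_)
      exact ConcreteCategory.congr_hom (congrArg (fun m => m.hom.app (op (EtCoh.top W'.left))) (η.hom_inv_id_app _)) y
    exact (surjective_top_iff S2.g).1 hg a

end Groth.Agent.EtGal
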